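import Mathlib

/-!
Permutations modulo two labellings and integer matrices with prescribed margins.
-/

set_option autoImplicit false

namespace CfsgLib.KnownSimple.UnipotentChar

variable {ι α β : Type*} [Fintype ι] [Fintype α] [Fintype β]

/-- Matrices of natural numbers with given row and column sums. -/
def Margins (a : α → ℕ) (b : β → ℕ) : Type _ :=
  {M : α → β → ℕ // (∀ x, ∑ y, M x y = a x) ∧ ∀ y, ∑ x, M x y = b y}

instance (a : α → ℕ) (b : β → ℕ) : Finite (Margins a b) := by
  refine Finite.of_injective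
    (fun M : Margins a b => fun (x : α) (y : β) => (⟨M.1 x y, ?_⟩ : Fin (a x + 1))) fun M N h => ?_
  · have := Finset.single_le_sum (f := M.1 x) (fun _ _ => Nat.zero_le _) (Finset.mem_univ y)
    rw [M.2.1 x] at this
    omega
  · exact Subtype.ext (funext fun x => funext fun y => congrArg Fin.val (congrFun (congrFun h x) y))

variable (f : ι → α) (g : ι → β)

/-- The margins of the two labellings. -/
noncomputable def fiberCard (f : ι → α) (x : α) : ℕ := Nat.card {i // f i = x}

/-- The meeting numbers of a permutation. -/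
noncomputable def cntFun (σ : Equiv.Perm ι) (x : α) (y : β) : ℕ :=
  Nat.card {j // f (σ j) = x ∧ g j = y}

theorem sum_cnt_right (σ : Equiv.Perm ι) (x : α) : ∑ y, cntFun f g σ x y = fiberCard f x := by
  simp only [cntFun, fiberCard]
  rw [← Nat.card_sigma]
  exact Nat.card_congr
    { toFun := fun p => ⟨σ p.2.1, p.2.2.1⟩
      invFun := fun i => ⟨g (σ.symm i.1), σ.symm i.1, by rw [σ.apply_symm_apply]; exact i.2, rfl⟩
      left_inv := fun p => by
        obtain ⟨y, j, h1, h2⟩ := p
        subst h2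
        refine Sigma.subtype_ext ?_ ?_ <;> simp
      right_inv := fun i => Subtype.ext (σ.apply_symm_apply _) }

theorem sum_cnt_left (σ : Equiv.Perm ι) (y : β) : ∑ x, cntFun f g σ x y = fiberCard g y := by
  simp only [cntFun, fiberCard]
  rw [← Nat.card_sigma]
  exact Nat.card_congr
    { toFun := fun p => ⟨p.2.1, p.2.2.2⟩
      invFun := fun i => ⟨f (σ i.1), i.1, rfl, i.2⟩
      left_inv := fun p => by
        obtain ⟨x, j, rfl, h2⟩ := p
        rfl
      right_inv := fun i => rfl }

/-- The meeting numbers as a matrix with the margins of the labellings. -/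
noncomputable def cnt (σ : Equiv.Perm ι) : Margins (fiberCard f) (fiberCard g) :=
  ⟨cntFun f g σ, sum_cnt_right f g σ, sum_cnt_left f g σ⟩

theorem cnt_surjective : Function.Surjective (cnt f g) := by
  classical
  rintro ⟨M, hr, hc⟩
  have e1 : ∀ x, Nonempty ({i // f i = x} ≃ Σ y, Fin (M x y)) := fun x => ⟨Fintype.equivOfCardEq (by
    rw [Fintype.card_sigma, ← Nat.card_eq_fintype_card]
    simp only [Fintype.card_fin, hr, fiberCard])⟩
  have e2 : ∀ y, Nonempty ({i // g i = y} ≃ Σ x, Fin (M x y)) := fun y => ⟨Fintype.equivOfCardEq (by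
    rw [Fintype.card_sigma, ← Nat.card_eq_fintype_card]
    simp only [Fintype.card_fin, hc, fiberCard])⟩
  obtain ⟨E1, h1⟩ : ∃ E : ι ≃ Σ x, Σ y, Fin (M x y), ∀ i, f i = (E i).1 :=
    ⟨(Equiv.sigmaFiberEquiv f).symm.trans (Equiv.sigmaCongrRight fun x => (e1 x).some), fun _ => rfl⟩
  obtain ⟨E2, h2⟩ : ∃ E : ι ≃ Σ y, Σ x, Fin (M x y), ∀ i, g i = (E i).1 :=
    ⟨(Equiv.sigmaFiberEquiv g).symm.trans (Equiv.sigmaCongrRight fun y => (e2 y).some), fun _ => rfl⟩
  let sw : (Σ y, Σ x, Fin (M x y)) ≃ Σ x, Σ y, Fin (M x y) :=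
    { toFun := fun p => ⟨p.2.1, p.1, p.2.2⟩
      invFun := fun p => ⟨p.2.1, p.1, p.2.2⟩
      left_inv := fun p => rfl
      right_inv := fun p => rfl }
  let σ : Equiv.Perm ι := (E2.trans sw).trans E1.symm
  have h3 : ∀ j, f (σ j) = (E2 j).2.1 := fun j => by
    rw [h1]
    show (E1 (E1.symm (sw (E2 j)))).1 = _
    rw [Equiv.apply_symm_apply]
    rfl
  refine ⟨σ, Subtype.ext (funext fun x => funext fun y => ?_)⟩
  show cntFun f g σ x y = M x y
  rw [cntFun, ← Nat.card_fin (M x y)]
  have e : {j // f (σ j) = x ∧ g j = y} ≃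
      {p : Σ y, Σ x, Fin (M x y) // p.2.1 = x ∧ p.1 = y} :=
    E2.subtypeEquiv fun j => by rw [h3, h2]
  refine (Nat.card_congr e).trans (Nat.card_congr
    { toFun := fun p => Fin.cast (congrArg₂ M p.2.1 p.2.2) p.1.2.2
      invFun := fun k => ⟨⟨y, x, k⟩, rfl, rfl⟩
      left_inv := fun p => by
        obtain ⟨⟨y', x', k⟩, rfl, rfl⟩ := p
        rfl
      right_inv := fun k => rfl })

/-- Equal meeting numbers mean the same class modulo the label-preserving permutations. -/
theorem exists_of_cnt_eq {σ σ' : Equiv.Perm ι} (h : cnt f g σ = cnt f g σ') :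
    ∃ s t : Equiv.Perm ι, (∀ i, f (s i) = f i) ∧ (∀ i, g (t i) = g i) ∧ s * σ = σ' * t := by
  classical
  have h' : ∀ p : α × β, Nat.card {j // (f (σ j), g j) = p} = Nat.card {j // (f (σ' j), g j) = p} :=
    fun p => by
      simp only [Prod.ext_iff]
      exact congrFun (congrFun (congrArg Subtype.val h) p.1) p.2
  have E : ∀ p : α × β, {j // (f (σ j), g j) = p} ≃ {j // (f (σ' j), g j) = p} := fun p =>
    Fintype.equivOfCardEq (by simp only [← Nat.card_eq_fintype_card, h' p])
  obtain ⟨t, ht⟩ : ∃ t : Equiv.Perm ι, ∀ j, (f (σ' (t j)), g (t j)) = (f (σ j), g j) :=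
    ⟨Equiv.ofFiberEquiv E, fun j => Equiv.ofFiberEquiv_map E j⟩
  refine ⟨σ' * t * σ⁻¹, t, fun i => ?_, fun i => congrArg Prod.snd (ht i), by group⟩
  have := congrArg Prod.fst (ht (σ⁻¹ i))
  simpa using this

theorem cnt_eq_of_rel {σ σ' s t : Equiv.Perm ι} (hs : ∀ i, f (s i) = f i) (ht : ∀ i, g (t i) = g i)
    (h : s * σ = σ' * t) : cnt f g σ = cnt f g σ' := by
  refine Subtype.ext (funext fun x => funext fun y => ?_)
  refine Nat.card_congr (t.subtypeEquiv fun j => ?_)
  have e : s (σ j) = σ' (t j) := Equiv.congr_fun h j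
  rw [← e, hs, ht]

/-- The classes of permutations are counted by the matrices. -/
theorem card_eq_card_margins {X : Type*} (Φ : Equiv.Perm ι → X) (hΦ : Function.Surjective Φ)
    (h : ∀ σ σ', Φ σ = Φ σ' ↔ cnt f g σ = cnt f g σ') :
    Nat.card X = Nat.card (Margins (fiberCard f) (fiberCard g)) := by
  refine (Nat.card_eq_of_bijective
    (fun M => Φ (Function.surjInv (cnt_surjective f g) M)) ⟨fun M N e => ?_, fun x => ?_⟩).symm
  · have := (h _ _).1 e
    rwa [Function.surjInv_eq (cnt_surjective f g), Function.surjInv_eq (cnt_surjective f g)] at this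
  · obtain ⟨σ, rfl⟩ := hΦ x
    exact ⟨cnt f g σ, (h _ _).2 (Function.surjInv_eq (cnt_surjective f g) _)⟩

end CfsgLib.KnownSimple.UnipotentChar
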