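import Mathlib
import Cfsg.Agent.Lib.KnownSimple.UnipotentChar.Margins

/-!
Cauchy's determinant and the orthogonality of alternating sums of margin counts.
-/

set_option autoImplicit false
set_option linter.unusedSectionVars false

namespace CfsgLib.KnownSimple.UnipotentChar

open Matrix

section Det

variable {n : ℕ}

/-- The polynomial `∏_{l ≠ j} (1 - y_l X)`. -/
noncomputable def omitPoly {R : Type*} [CommRing R] (y : Fin n → R) (j : Fin n) : Polynomial R :=
  ∏ l ∈ Finset.univ.erase j, (1 - Polynomial.C (y l) * Polynomial.X)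

/-- Its coefficient matrix. -/
noncomputable def omitCoeff {R : Type*} [CommRing R] (y : Fin n → R) : Matrix (Fin n) (Fin n) R :=
  Matrix.of fun k j => (omitPoly y j).coeff k.val

theorem natDegree_omitPoly {R : Type*} [CommRing R] (y : Fin n → R) (j : Fin n) :
    (omitPoly y j).natDegree < n := by
  refine lt_of_le_of_lt ((Polynomial.natDegree_prod_le _ _).trans
    (Finset.sum_le_card_nsmul _ _ 1 fun l _ => ?_)) ?_
  · refine (Polynomial.natDegree_sub_le _ _).trans ?_
    rw [Polynomial.natDegree_one]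
    exact max_le (by omega) ((Polynomial.natDegree_C_mul_le _ _).trans Polynomial.natDegree_X_le)
  · rw [Finset.card_erase_of_mem (Finset.mem_univ j), Finset.card_univ, Fintype.card_fin, smul_eq_mul, mul_one]
    have := j.isLt
    omega

theorem of_prod_eq {R : Type*} [CommRing R] (x y : Fin n → R) :
    (Matrix.of fun i j => ∏ l ∈ Finset.univ.erase j, (1 - x i * y l)) =
      Matrix.vandermonde x * omitCoeff y := by
  ext i j
  rw [Matrix.mul_apply]
  simp only [Matrix.of_apply, Matrix.vandermonde_apply, omitCoeff]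
  rw [show (∏ l ∈ Finset.univ.erase j, (1 - x i * y l)) = (omitPoly y j).eval (x i) by
      rw [omitPoly, Polynomial.eval_prod]
      refine Finset.prod_congr rfl fun l _ => ?_
      simp only [Polynomial.eval_sub, Polynomial.eval_one, Polynomial.eval_mul, Polynomial.eval_C, Polynomial.eval_X]
      rw [mul_comm],
    Polynomial.eval_eq_sum_range' (natDegree_omitPoly y j), ← Fin.sum_univ_eq_sum_range]
  exact Finset.sum_congr rfl fun k _ => mul_comm _ _

theorem det_omitCoeff_field {K : Type*} [Field K] (y : Fin n → K) (hy : ∀ i, y i ≠ 0)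
    (hinj : Function.Injective y) : (omitCoeff y).det = (Matrix.vandermonde y).det := by
  classical
  set z : Fin n → K := fun i => (y i)⁻¹ with hz
  have hz0 : (Matrix.vandermonde z).det ≠ 0 :=
    Matrix.det_vandermonde_ne_zero_iff.2 fun i j h => hinj (inv_injective h)
  refine mul_left_cancel₀ hz0 ?_
  rw [← Matrix.det_mul, ← of_prod_eq,
    show (Matrix.of fun i j => ∏ l ∈ Finset.univ.erase j, (1 - z i * y l)) =
      Matrix.diagonal fun i => ∏ l ∈ ({i} : Finset (Fin n))ᶜ, (1 - z i * y l) from ?_,
    Matrix.det_diagonal, Matrix.det_vandermonde, Matrix.det_vandermonde, ← Finset.prod_mul_distrib]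
  · rw [← Finset.prod_prod_Ioi_mul_eq_prod_prod_off_diag fun l i => 1 - z i * y l]
    refine Finset.prod_congr rfl fun i _ => ?_
    rw [← Finset.prod_mul_distrib]
    refine Finset.prod_congr rfl fun j _ => ?_
    have h1 : z i * y i = 1 := inv_mul_cancel₀ (hy i)
    have h2 : z j * y j = 1 := inv_mul_cancel₀ (hy j)
    have h3 : z i * z j * (y i * y j) = 1 := by linear_combination (z j * y j) * h1 + h2
    linear_combination h3 - h1 - h2
  · ext i j
    rw [Matrix.of_apply]
    by_cases h : i = j
    · subst h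
      rw [Matrix.diagonal_apply_eq, Finset.compl_singleton]
    · rw [Matrix.diagonal_apply_ne _ h]
      refine Finset.prod_eq_zero (Finset.mem_erase.2 ⟨h, Finset.mem_univ i⟩) ?_
      rw [inv_mul_cancel₀ (hy i), sub_self]

theorem omitCoeff_map {R S : Type*} [CommRing R] [CommRing S] (f : R →+* S) (y : Fin n → R) :
    f.mapMatrix (omitCoeff y) = omitCoeff (fun i => f (y i)) := by
  ext k j
  simp [omitCoeff, omitPoly, ← Polynomial.coeff_map, Polynomial.map_prod]

/-- The variables of the first kind. -/
noncomputable def varX (i : Fin n) : MvPolynomial (Fin n ⊕ Fin n) ℤ := MvPolynomial.X (Sum.inl i)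

/-- The variables of the second kind. -/
noncomputable def varY (i : Fin n) : MvPolynomial (Fin n ⊕ Fin n) ℤ := MvPolynomial.X (Sum.inr i)

/-- Cauchy's determinant, cleared of denominators. -/
theorem det_cauchy :
    (Matrix.of fun i j : Fin n => ∏ l ∈ Finset.univ.erase j, (1 - varX i * varY l)).det =
      (Matrix.vandermonde (varX (n := n))).det * (Matrix.vandermonde (varY (n := n))).det := by
  rw [of_prod_eq, Matrix.det_mul]
  congr 1
  set L := FractionRing (MvPolynomial (Fin n ⊕ Fin n) ℤ)
  set f := algebraMap (MvPolynomial (Fin n ⊕ Fin n) ℤ) L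
  have hf : Function.Injective f := IsFractionRing.injective _ _
  apply hf
  rw [RingHom.map_det, RingHom.map_det, omitCoeff_map,
    det_omitCoeff_field (fun i => f (varY i)) (fun i h => MvPolynomial.X_ne_zero (Sum.inr i) (hf (h.trans (map_zero f).symm)))
      (hf.comp fun i j h => Sum.inr_injective (MvPolynomial.X_injective h))]
  congr 1
  ext i j
  simp [Matrix.vandermonde]

end Det

section Series

variable {σ : Type*} [DecidableEq σ]

/-- The geometric series in the monomial with exponent `e`, read at the coordinate `c`. -/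
noncomputable def geom (e : σ →₀ ℕ) (c : σ) : MvPowerSeries σ ℤ :=
  fun d => if d = d c • e then 1 else 0

theorem coeff_geom (e : σ →₀ ℕ) (c : σ) (d : σ →₀ ℕ) :
    MvPowerSeries.coeff d (geom e c) = if d = d c • e then 1 else 0 := rfl

theorem one_sub_mul_geom (e : σ →₀ ℕ) (c : σ) (hc : e c = 1) :
    (1 - MvPowerSeries.monomial e (1 : ℤ)) * geom e c = 1 := by
  ext d
  rw [sub_mul, one_mul, map_sub, MvPowerSeries.coeff_monomial_mul, one_mul, MvPowerSeries.coeff_one,
    coeff_geom]
  by_cases h0 : d = 0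
  · subst h0
    rw [if_neg (c := e ≤ 0) fun h => by
      have := h c
      rw [hc] at this
      simp at this]
    simp
  rw [if_neg h0]
  by_cases he : e ≤ d
  · rw [if_pos he, coeff_geom, sub_eq_zero]
    have hdc : 1 ≤ d c := hc ▸ he c
    refine if_congr ⟨fun h => ?_, fun h => ?_⟩ rfl rfl
    · rw [Finsupp.tsub_apply, hc]
      ext s
      have := congrArg (fun v : σ →₀ ℕ => v s) h
      simp only [Finsupp.smul_apply, smul_eq_mul] at this
      rw [Finsupp.tsub_apply, Finsupp.smul_apply, smul_eq_mul, this, Nat.sub_mul, one_mul]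
    · ext s
      have h1 := congrArg (fun v : σ →₀ ℕ => v s) h
      simp only [Finsupp.tsub_apply, Finsupp.smul_apply, smul_eq_mul, hc, Nat.sub_mul, one_mul] at h1
      have := he s
      have := Nat.le_mul_of_pos_left (e s) hdc
      simp only [Finsupp.smul_apply, smul_eq_mul]
      omega
  · rw [if_neg he, sub_zero, if_neg]
    intro h
    refine he fun s => ?_
    have h1 := congrArg (fun v : σ →₀ ℕ => v s) h
    simp only [Finsupp.smul_apply, smul_eq_mul] at h1
    have : 1 ≤ d c := by
      by_contra hlt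
      rw [show d c = 0 by omega, zero_smul] at h
      exact h0 h
    rw [h1]
    exact Nat.le_mul_of_pos_left _ this

/-- The coefficients of a product of geometric series. -/
theorem coeff_prod_geom {ι : Type*} [Fintype ι] (e : ι → σ →₀ ℕ) (c : ι → σ) (hc : ∀ i, e i (c i) = 1)
    (d : σ →₀ ℕ) : MvPowerSeries.coeff d (∏ i, geom (e i) (c i)) =
      (Nat.card {k : ι → ℕ // ∑ i, k i • e i = d} : ℤ) := by
  classical
  rw [MvPowerSeries.coeff_prod]
  simp only [coeff_geom, Finset.prod_ite_zero, Finset.prod_const_one, Finset.mem_univ, forall_const]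
  rw [Finset.sum_boole]
  congr 1
  rw [← Fintype.card_coe, ← Nat.card_eq_fintype_card]
  refine Nat.card_congr
    { toFun := fun l => ⟨fun i => l.1 i (c i), ?_⟩
      invFun := fun k => ⟨Finsupp.equivFunOnFinite.symm fun i => k.1 i • e i, ?_⟩
      left_inv := fun l => ?_
      right_inv := fun k => ?_ }
  · obtain ⟨hl, hl'⟩ := Finset.mem_filter.1 l.2
    rw [Finset.mem_finsuppAntidiag] at hl
    exact (Finset.sum_congr rfl fun i _ => (hl' i).symm).trans hl.1
  · rw [Finset.mem_filter, Finset.mem_finsuppAntidiag]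
    refine ⟨⟨?_, Finset.subset_univ _⟩, fun i => ?_⟩
    · exact (Finset.sum_congr rfl fun i _ => by simp).trans k.2
    · simp [hc]
  · obtain ⟨hl, hl'⟩ := Finset.mem_filter.1 l.2
    refine Subtype.ext (Finsupp.ext fun i => ?_)
    show l.1 i (c i) • e i = l.1 i
    exact (hl' i).symm
  · refine Subtype.ext (funext fun i => ?_)
    simp [hc]

end Series

section Alternating

variable {n : ℕ}

/-- An exponent vector in the two sets of variables. -/
noncomputable def expo (a b : Fin n → ℕ) : Fin n ⊕ Fin n →₀ ℕ :=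
  Finsupp.equivFunOnFinite.symm (Sum.elim a b)

theorem expo_le {a b a' b' : Fin n → ℕ} : expo a b ≤ expo a' b' ↔ (∀ i, a i ≤ a' i) ∧ ∀ i, b i ≤ b' i :=
  ⟨fun h => ⟨fun i => h (Sum.inl i), fun i => h (Sum.inr i)⟩,
    fun h s => by rcases s with i | i; exacts [h.1 i, h.2 i]⟩

theorem expo_sub (a b a' b' : Fin n → ℕ) :
    expo a b - expo a' b' = expo (fun i => a i - a' i) fun i => b i - b' i := by
  ext s
  rcases s with i | i <;> simp [expo]

/-- The exponent of `x_i y_j`. -/
noncomputable def pairExp (p : Fin n × Fin n) : Fin n ⊕ Fin n →₀ ℕ :=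
  Finsupp.single (Sum.inl p.1) 1 + Finsupp.single (Sum.inr p.2) 1

theorem pairExp_inl (p : Fin n × Fin n) : pairExp p (Sum.inl p.1) = 1 := by
  simp [pairExp]

theorem sum_smul_pairExp {ι : Type*} [Fintype ι] (p : ι → Fin n × Fin n) (k : ι → ℕ) (a b : Fin n → ℕ) :
    ∑ t, k t • pairExp (p t) = expo a b ↔
      (∀ i, ∑ t, (if (p t).1 = i then k t else 0) = a i) ∧ ∀ j, ∑ t, (if (p t).2 = j then k t else 0) = b j := by
  classical
  rw [Finsupp.ext_iff, Sum.forall]
  simp [pairExp, expo, Finsupp.single_apply, mul_ite]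

theorem card_prod_geom (a b : Fin n → ℕ) :
    Nat.card {k : Fin n × Fin n → ℕ // ∑ t, k t • pairExp t = expo a b} = Nat.card (Margins a b) := by
  refine Nat.card_congr ((Equiv.curry (Fin n) (Fin n) ℕ).subtypeEquiv fun k => ?_)
  refine (sum_smul_pairExp id k a b).trans (and_congr ?_ ?_) <;> refine forall_congr' fun i => ?_
  · rw [Fintype.sum_prod_type, Finset.sum_eq_single i]
    · simp
    · intro x _ hx; simp [hx]
    · simp
  · rw [Fintype.sum_prod_type]
    simp

theorem card_perm_geom {a b : Fin n → ℕ} (ha : StrictMono a) (hb : StrictMono b) (σ : Equiv.Perm (Fin n)) :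
    Nat.card {k : Fin n → ℕ // ∑ j, k j • pairExp (σ j, j) = expo a b} =
      if σ = 1 ∧ a = b then 1 else 0 := by
  have hiff : ∀ k : Fin n → ℕ, ∑ j, k j • pairExp (σ j, j) = expo a b ↔ k = b ∧ σ = 1 ∧ a = b := by
    intro k
    rw [sum_smul_pairExp (fun j => (σ j, j)) k a b]
    have h1 : ∀ i, ∑ t, (if σ t = i then k t else 0) = k (σ.symm i) := fun i => by
      rw [Finset.sum_eq_single (σ.symm i)]
      · simp
      · intro t _ ht
        rw [if_neg]
        rintro rfl
        exact ht (σ.symm_apply_apply t).symm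
      · simp
    have h2 : ∀ j, ∑ t, (if t = j then k t else 0) = k j := fun j => by simp
    simp only [h1, h2]
    constructor
    · rintro ⟨h3, h4⟩
      obtain rfl : k = b := funext h4
      have hmono : StrictMono σ.symm := fun i j hij => hb.lt_iff_lt.1 (by rw [h3, h3]; exact ha hij)
      have hs : σ.symm = 1 := by
        have e : (σ.symm : Fin n → Fin n) = id := (hmono.range_inj strictMono_id).1 (by
          rw [σ.symm.surjective.range_eq, Set.range_id])
        exact Equiv.ext (congrFun e)
      have hσ : σ = 1 := by rw [← σ.symm_symm, hs]; rfl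
      subst hσ
      exact ⟨rfl, rfl, funext fun i => (h3 i).symm⟩
    · rintro ⟨rfl, rfl, rfl⟩
      exact ⟨fun i => rfl, fun j => rfl⟩
  split_ifs with h
  · rw [Nat.card_eq_one_iff_unique]
    exact ⟨⟨fun x y => Subtype.ext (((hiff _).1 x.2).1.trans ((hiff _).1 y.2).1.symm)⟩,
      ⟨⟨b, (hiff _).2 ⟨rfl, h⟩⟩⟩⟩
  · rw [Nat.card_eq_zero]
    exact Or.inl ⟨fun x => h ((hiff _).1 x.2).2⟩

/-- The alternating sum of margin counts is `δ`. -/
theorem alternating_margins {a b : Fin n → ℕ} (ha : StrictMono a) (hb : StrictMono b) :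
    (∑ κ : Equiv.Perm (Fin n), ∑ κ' : Equiv.Perm (Fin n),
      if (∀ i, (κ i).val ≤ a i) ∧ ∀ i, (κ' i).val ≤ b i then
        (Equiv.Perm.sign κ : ℤ) * (Equiv.Perm.sign κ' : ℤ) *
          (Nat.card (Margins (fun i => a i - (κ i).val) fun i => b i - (κ' i).val) : ℤ)
      else 0) = if a = b then 1 else 0 := by
  classical
  let cs : MvPolynomial (Fin n ⊕ Fin n) ℤ →+* MvPowerSeries (Fin n ⊕ Fin n) ℤ := @MvPolynomial.coeToMvPowerSeries.ringHom (Fin n ⊕ Fin n) ℤ _
  let G : Fin n × Fin n → MvPowerSeries (Fin n ⊕ Fin n) ℤ := fun t => geom (pairExp t) (Sum.inl t.1)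
  have hG : ∀ i j, cs (1 - varX i * varY j) * G (i, j) = 1 := fun i j => by
    rw [map_sub, map_one, map_mul]
    rw [show cs (varX i) = MvPowerSeries.X (Sum.inl i) from MvPolynomial.coe_X _,
      show cs (varY j) = MvPowerSeries.X (Sum.inr j) from MvPolynomial.coe_X _]
    rw [MvPowerSeries.X_def, MvPowerSeries.X_def, MvPowerSeries.monomial_mul_monomial, one_mul]
    exact one_sub_mul_geom (pairExp (i, j)) _ (pairExp_inl (i, j))
  have hall : (∏ i, ∏ l, cs (1 - varX i * varY l)) * ∏ t, G t = 1 := by
    rw [Fintype.prod_prod_type, ← Finset.prod_mul_distrib]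
    refine Finset.prod_eq_one fun i _ => ?_
    rw [← Finset.prod_mul_distrib]
    exact Finset.prod_eq_one fun l _ => hG i l
  have hdet : (Matrix.of fun i j => G (i, j)).det =
      cs ((Matrix.vandermonde (varX (n := n))).det * (Matrix.vandermonde (varY (n := n))).det) * ∏ t, G t := by
    rw [← det_cauchy, RingHom.map_det,
      show cs.mapMatrix (Matrix.of fun i j : Fin n => ∏ l ∈ Finset.univ.erase j, (1 - varX i * varY l)) =
        Matrix.of fun i j => (∏ l, cs (1 - varX i * varY l)) * (Matrix.of fun i j => G (i, j)) i j from ?_,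
      Matrix.det_mul_column, mul_right_comm, hall, one_mul]
    ext i j
    simp only [RingHom.mapMatrix_apply, Matrix.map_apply, Matrix.of_apply, map_prod]
    rw [← Finset.mul_prod_erase Finset.univ _ (Finset.mem_univ j), mul_right_comm, hG, one_mul]
  have hL : MvPowerSeries.coeff (expo a b) (Matrix.of fun i j => G (i, j)).det = if a = b then 1 else 0 := by
    rw [Matrix.det_apply', map_sum]
    have : ∀ σ : Equiv.Perm (Fin n), MvPowerSeries.coeff (expo a b)
        (((Equiv.Perm.sign σ : ℤ) : MvPowerSeries (Fin n ⊕ Fin n) ℤ) * ∏ j, (Matrix.of fun i j => G (i, j)) (σ j) j) =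
        if σ = 1 ∧ a = b then 1 else 0 := fun σ => by
      rw [← zsmul_eq_mul, map_zsmul]
      simp only [Matrix.of_apply, G]
      rw [coeff_prod_geom (fun j => pairExp (σ j, j)) (fun j => Sum.inl (σ j)) (fun j => pairExp_inl (σ j, j)),
        card_perm_geom ha hb]
      split_ifs with h
      · rw [h.1]; simp
      · simp
    rw [Finset.sum_congr rfl fun σ _ => this σ]
    by_cases h : a = b <;> simp [h]
  have hvan : ∀ v : Fin n → MvPolynomial (Fin n ⊕ Fin n) ℤ, (Matrix.vandermonde v).det =
      ∑ κ : Equiv.Perm (Fin n), (Equiv.Perm.sign κ : ℤ) • ∏ i, v i ^ (κ i).val := fun v => by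
    rw [← Matrix.det_transpose, Matrix.det_apply']
    refine Finset.sum_congr rfl fun κ _ => ?_
    rw [zsmul_eq_mul]
    rfl
  have hmono : ∀ κ κ' : Equiv.Perm (Fin n),
      cs ((∏ i, varX i ^ (κ i).val) * ∏ i, varY i ^ (κ' i).val) =
        MvPowerSeries.monomial (expo (fun i => (κ i).val) fun i => (κ' i).val) 1 := fun κ κ' => by
    have : (∏ i, (varX i) ^ (κ i).val) * ∏ i, (varY i) ^ (κ' i).val =
        MvPolynomial.monomial (expo (fun i => (κ i).val) fun i => (κ' i).val) (1 : ℤ) := by
      rw [MvPolynomial.monomial_eq, map_one, one_mul, Finsupp.prod_fintype _ _ fun _ => pow_zero _,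
        Fintype.prod_sum_type]
      rfl
    rw [this]
    exact MvPolynomial.coe_monomial _ _
  rw [← hL, hdet, hvan, hvan, Finset.sum_mul, map_sum, Finset.sum_mul, map_sum]
  refine Finset.sum_congr rfl fun κ _ => ?_
  rw [Finset.mul_sum, map_sum, Finset.sum_mul, map_sum]
  refine Finset.sum_congr rfl fun κ' _ => ?_
  rw [smul_mul_smul_comm, map_zsmul, smul_mul_assoc, map_zsmul, hmono, MvPowerSeries.coeff_monomial_mul,
    one_mul, smul_eq_mul, mul_ite, mul_zero]
  refine if_congr expo_le.symm ?_ rfl
  rw [expo_sub, coeff_prod_geom pairExp (fun t => Sum.inl t.1) pairExp_inl, card_prod_geom]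

end Alternating

end CfsgLib.KnownSimple.UnipotentChar
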