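import Mathlib
import Cfsg.Prelude.Def_LinearParabolics

/-!
Block labels of a composition.
-/

set_option autoImplicit false

namespace CfsgLib.KnownSimple.UnipotentChar

variable {n : ℕ} (μ : Fin n → ℕ)

theorem compLabel_mono {i j : Fin n} (h : i ≤ j) : Cfsg.compLabel μ i ≤ Cfsg.compLabel μ j :=
  Finset.card_le_card fun x hx => by
    simp only [Finset.mem_filter, Finset.mem_univ, true_and] at hx ⊢
    exact hx.trans h

theorem compLabel_lt (hμ : ∑ i, μ i = n) (i : Fin n) : Cfsg.compLabel μ i < n := by
  have hn : 0 < n := i.pos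
  have hcard : (Finset.univ.filter fun j : Fin n =>
      (∑ k ∈ Finset.univ.filter (fun k : Fin n => k ≤ j), μ k) ≤ i.val).card <
      (Finset.univ : Finset (Fin n)).card := by
    refine Finset.card_lt_card (Finset.ssubset_iff_of_subset (Finset.filter_subset _ _) |>.2
      ⟨⟨n - 1, by omega⟩, Finset.mem_univ _, ?_⟩)
    simp only [Finset.mem_filter, Finset.mem_univ, true_and, not_le]
    rw [Finset.filter_true_of_mem (fun x _ => by rw [Fin.le_def]; have := x.isLt; simp only; omega), hμ]
    exact i.isLt
  simpa [Cfsg.compLabel] using hcard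

theorem compLabel_eq_iff (i k : Fin n) : Cfsg.compLabel μ i = k.val ↔
    (∑ x ∈ Finset.univ.filter (fun x : Fin n => x < k), μ x) ≤ i.val ∧
      i.val < (∑ x ∈ Finset.univ.filter (fun x : Fin n => x < k), μ x) + μ k := by
  set S : Fin n → ℕ := fun j => ∑ x ∈ Finset.univ.filter (fun x : Fin n => x ≤ j), μ x with hS
  have hmono : ∀ a b : Fin n, a ≤ b → S a ≤ S b := fun a b hab =>
    Finset.sum_le_sum_of_subset fun x hx => by
      simp only [Finset.mem_filter, Finset.mem_univ, true_and] at hx ⊢
      exact hx.trans hab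
  set A := Finset.univ.filter fun j : Fin n => S j ≤ i.val with hA
  have hlabA : Cfsg.compLabel μ i = A.card := rfl
  have hcl : ∀ a b : Fin n, a ≤ b → b ∈ A → a ∈ A := fun a b hab hb => by
    simp only [hA, Finset.mem_filter, Finset.mem_univ, true_and] at hb ⊢
    exact (hmono a b hab).trans hb
  have hiff : ∀ j : Fin n, S j ≤ i.val ↔ j.val < A.card := by
    intro j
    constructor
    · intro hj
      have hsub : Finset.Iic j ⊆ A := fun x hx => hcl x j (Finset.mem_Iic.1 hx) (by simp [hA, hj])
      have := Finset.card_le_card hsub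
      rw [Fin.card_Iic] at this
      omega
    · intro hj
      by_contra hn
      have hsub : A ⊆ Finset.Iio j := fun x hx => Finset.mem_Iio.2 (by
        by_contra hx'
        exact hn ((hmono j x (not_lt.1 hx')).trans (Finset.mem_filter.1 hx).2))
      have := Finset.card_le_card hsub
      rw [Fin.card_Iio] at this
      omega
  have hstep : S k = (∑ x ∈ Finset.univ.filter (fun x : Fin n => x < k), μ x) + μ k := by
    simp only [hS]
    rw [← Finset.sum_erase_add _ _ (show k ∈ Finset.univ.filter (fun x : Fin n => x ≤ k) by simp)]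
    congr 1
    refine Finset.sum_congr ?_ fun _ _ => rfl
    ext x
    simp [lt_iff_le_and_ne, and_comm]
  have hpred : ∀ (h0 : 0 < k.val), S ⟨k.val - 1, by omega⟩ =
      ∑ x ∈ Finset.univ.filter (fun x : Fin n => x < k), μ x := fun h0 => by
    refine Finset.sum_congr ?_ fun _ _ => rfl
    ext x
    simp only [Finset.mem_filter, Finset.mem_univ, true_and, Fin.lt_def, Fin.le_def]
    omega
  rw [hlabA, ← hstep]
  constructor
  · intro hk
    refine ⟨?_, ?_⟩
    · rcases Nat.eq_zero_or_pos k.val with h0 | h0
      · rw [Finset.filter_false_of_mem (fun x _ => by simp only [Fin.lt_def, h0]; exact Nat.not_lt_zero _)]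
        simp
      · rw [← hpred h0]
        exact (hiff _).2 (by rw [hk]; simp; omega)
    · by_contra hc
      have := (hiff k).1 (not_lt.1 hc)
      omega
  · rintro ⟨h1, h2⟩
    have hk1 : ¬ k.val < A.card := fun h => by have := (hiff k).2 h; omega
    rcases Nat.eq_zero_or_pos k.val with h0 | h0
    · omega
    · have h3 : (⟨k.val - 1, by omega⟩ : Fin n).val < A.card := (hiff _).1 (by rw [hpred h0]; exact h1)
      simp only at h3
      omega

/-- The labels as indices. -/
def lab (hμ : ∑ i, μ i = n) (i : Fin n) : Fin n := ⟨Cfsg.compLabel μ i, compLabel_lt μ hμ i⟩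

theorem lab_mono (hμ : ∑ i, μ i = n) : Monotone (lab μ hμ) := fun _ _ h => compLabel_mono μ h

theorem card_lab_fiber (hμ : ∑ i, μ i = n) (k : Fin n) :
    Nat.card {i : Fin n // lab μ hμ i = k} = μ k := by
  classical
  set a := ∑ x ∈ Finset.univ.filter (fun x : Fin n => x < k), μ x with ha
  have hak : a + μ k ≤ n := by
    have hnot : k ∉ Finset.univ.filter (fun x : Fin n => x < k) := by simp
    calc a + μ k = ∑ x ∈ insert k (Finset.univ.filter (fun x : Fin n => x < k)), μ x := by
          rw [Finset.sum_insert hnot, add_comm]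
      _ ≤ ∑ x, μ x := Finset.sum_le_sum_of_subset (Finset.subset_univ _)
      _ = n := hμ
  refine Eq.trans (Nat.card_congr (?_ : {i : Fin n // lab μ hμ i = k} ≃ Fin (μ k))) (Nat.card_fin _)
  exact
    { toFun := fun i => ⟨i.1.val - a, by have := (compLabel_eq_iff μ i.1 k).1 (Fin.ext_iff.1 i.2); omega⟩
      invFun := fun j => ⟨⟨a + j.val, by omega⟩, Fin.ext ((compLabel_eq_iff μ _ k).2
        ⟨by simp; omega, by simp; omega⟩)⟩
      left_inv := fun i => by
        have := (compLabel_eq_iff μ i.1 k).1 (Fin.ext_iff.1 i.2)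
        exact Subtype.ext (Fin.ext (show a + (i.1.val - a) = i.1.val by omega))
      right_inv := fun j => Fin.ext (by simp) }

end CfsgLib.KnownSimple.UnipotentChar
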