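import Mathlib
import Cfsg.Agent.Lib.KnownSimple.UnipotentChar.Labels
import Cfsg.Agent.Lib.KnownSimple.UnipotentChar.Margins
import Cfsg.Agent.Lib.CharTheory.PermChar

/-!
Double cosets of parabolic subgroups of `GL_n` and of Young subgroups.
-/

set_option autoImplicit false
set_option linter.unusedSectionVars false

namespace CfsgLib.KnownSimple.UnipotentChar

open MulAction

section General

variable {G : Type*} [Group G] [Finite G] (H K : Subgroup G)

theorem mk_pair_eq_iff {a b : G} :
    (Quotient.mk'' ((((1 : G) : G ⧸ H), (a : G ⧸ K))) : orbitRel.Quotient G ((G ⧸ H) × (G ⧸ K))) =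
      Quotient.mk'' (((1 : G) : G ⧸ H), (b : G ⧸ K)) ↔ ∃ p ∈ H, ∃ k ∈ K, p * b = a * k := by
  rw [Quotient.eq'', orbitRel_apply]
  constructor
  · rintro ⟨g, hg⟩
    simp only [Prod.smul_mk, Prod.mk.injEq, MulAction.Quotient.smul_mk, smul_eq_mul, mul_one] at hg
    obtain ⟨h1, h2⟩ := hg
    have hgH : g ∈ H := by
      rw [QuotientGroup.eq, mul_one] at h1
      simpa using h1
    exact ⟨g, hgH, a⁻¹ * (g * b), QuotientGroup.eq.1 h2.symm, by group⟩
  · rintro ⟨p, hp, k, hk, e⟩
    refine ⟨p, ?_⟩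
    simp only [Prod.smul_mk, Prod.mk.injEq, MulAction.Quotient.smul_mk, smul_eq_mul, mul_one]
    refine ⟨?_, ?_⟩
    · rw [QuotientGroup.eq, mul_one]; exact H.inv_mem hp
    · rw [e, QuotientGroup.eq, _root_.mul_inv_rev, inv_mul_cancel_right]
      exact K.inv_mem hk

/-- Counting the orbits on pairs of cosets. -/
theorem card_orbits_eq {n : ℕ} (f g : Fin n → Fin n) (rep : Equiv.Perm (Fin n) → G)
    (hsurj : ∀ x : G, ∃ σ, ∃ p ∈ H, ∃ k ∈ K, p * x = rep σ * k)
    (hiff : ∀ σ σ', (∃ p ∈ H, ∃ k ∈ K, p * rep σ' = rep σ * k) ↔ cnt f g σ = cnt f g σ') :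
    Nat.card (orbitRel.Quotient G ((G ⧸ H) × (G ⧸ K))) =
      Nat.card (Margins (fiberCard f) (fiberCard g)) := by
  refine card_eq_card_margins f g
    (fun σ => Quotient.mk'' (((1 : G) : G ⧸ H), (rep σ : G ⧸ K))) (fun z => ?_)
    (fun σ σ' => (mk_pair_eq_iff H K).trans (hiff σ σ'))
  induction z using Quotient.inductionOn' with
  | _ z =>
    obtain ⟨x, y⟩ := z
    induction x using QuotientGroup.induction_on with
    | _ x =>
      induction y using QuotientGroup.induction_on with
      | _ y =>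
        obtain ⟨σ, p, hp, k, hk, e⟩ := hsurj (x⁻¹ * y)
        refine ⟨σ, ?_⟩
        rw [Quotient.eq'', orbitRel_apply]
        refine ⟨p * x⁻¹, ?_⟩
        simp only [Prod.smul_mk, Prod.mk.injEq, MulAction.Quotient.smul_mk, smul_eq_mul]
        refine ⟨?_, ?_⟩
        · rw [QuotientGroup.eq]
          simpa [mul_assoc] using H.inv_mem hp
        · rw [mul_assoc, e, QuotientGroup.eq]
          simpa [mul_assoc] using K.inv_mem hk

/-- Burnside: the inner product of two permutation characters. -/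
theorem classInner_fixedPoint [Fintype G] :
    Cfsg.classInner (Cfsg.fixedPointCharacter H) (Cfsg.fixedPointCharacter K) =
      (Nat.card (orbitRel.Quotient G ((G ⧸ H) × (G ⧸ K))) : ℂ) := by
  rw [← CharTheory.classInner_card_fixedBy_one ((G ⧸ H) × (G ⧸ K))]
  simp only [Cfsg.classInner, Cfsg.fixedPointCharacter, map_natCast, map_one, mul_one]
  congr 1
  refine Finset.sum_congr rfl fun g _ => ?_
  rw [← Nat.cast_mul, ← Nat.card_prod]
  congr 1
  exact Nat.card_congr
    { toFun := fun p => ⟨(p.1.1, p.2.1), Prod.ext p.1.2 p.2.2⟩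
      invFun := fun p => (⟨p.1.1, congrArg Prod.fst p.2⟩, ⟨p.1.2, congrArg Prod.snd p.2⟩)
      left_inv := fun _ => rfl
      right_inv := fun _ => rfl }

end General

section Sym

variable {n : ℕ}

/-- The number of orbits for two Young subgroups. -/
theorem card_orbits_young (ν μ : Fin n → ℕ) (hν : ∑ i, ν i = n) (hμ : ∑ i, μ i = n) :
    Nat.card (orbitRel.Quotient (Equiv.Perm (Fin n))
      ((Equiv.Perm (Fin n) ⧸ Cfsg.youngSubgroup ν) × (Equiv.Perm (Fin n) ⧸ Cfsg.youngSubgroup μ))) =
      Nat.card (Margins ν μ) := by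
  have hf : fiberCard (lab ν hν) = ν := funext (card_lab_fiber ν hν)
  have hg : fiberCard (lab μ hμ) = μ := funext (card_lab_fiber μ hμ)
  have hmem : ∀ (ρ : Fin n → ℕ) (hρ : ∑ i, ρ i = n) (s : Equiv.Perm (Fin n)),
      s ∈ Cfsg.youngSubgroup ρ ↔ ∀ i, lab ρ hρ (s i) = lab ρ hρ i := fun ρ hρ s =>
    ⟨fun h i => Fin.ext (h i), fun h i => congrArg Fin.val (h i)⟩
  conv_rhs => rw [← hf, ← hg]
  refine card_orbits_eq _ _ (lab ν hν) (lab μ hμ) id
    (fun x => ⟨x, 1, one_mem _, 1, one_mem _, by simp⟩) fun σ σ' => ?_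
  constructor
  · rintro ⟨p, hp, k, hk, e⟩
    exact (cnt_eq_of_rel _ _ ((hmem ν hν p).1 hp) ((hmem μ hμ k).1 hk) e).symm
  · intro h
    obtain ⟨s, t, hs, ht, e⟩ := exists_of_cnt_eq _ _ h.symm
    exact ⟨s, (hmem ν hν s).2 hs, t, (hmem μ hμ t).2 ht, e⟩

end Sym

section Linear

open Matrix

variable {F : Type*} [Field F] {n : ℕ}

/-- Permutation matrix sending the `j`-th unit vector to the `σ j`-th. -/
def permMat (σ : Equiv.Perm (Fin n)) : Matrix (Fin n) (Fin n) F :=
  Matrix.of fun i j => if i = σ j then 1 else 0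

theorem permMat_mulVec (σ : Equiv.Perm (Fin n)) (v : Fin n → F) (i : Fin n) :
    (permMat σ *ᵥ v) i = v (σ.symm i) := by
  classical
  simp only [Matrix.mulVec, dotProduct, permMat, Matrix.of_apply, ite_mul, one_mul, zero_mul]
  rw [Finset.sum_eq_single (σ.symm i)]
  · simp
  · intro j _ hj
    rw [if_neg]
    rintro rfl
    exact hj (σ.symm_apply_apply j).symm
  · simp

theorem permMat_mul (σ τ : Equiv.Perm (Fin n)) :
    (permMat σ : Matrix (Fin n) (Fin n) F) * permMat τ = permMat (σ * τ) := by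
  refine Matrix.ext_of_mulVec_single fun k => funext fun i => ?_
  rw [← Matrix.mulVec_mulVec, permMat_mulVec, permMat_mulVec, permMat_mulVec]
  rfl

theorem permMat_one : (permMat 1 : Matrix (Fin n) (Fin n) F) = 1 := by
  ext i j
  by_cases h : i = j <;> simp [permMat, Matrix.one_apply, h]

/-- The permutation matrix as an invertible matrix. -/
def permGL (σ : Equiv.Perm (Fin n)) : GL (Fin n) F :=
  ⟨permMat σ, permMat σ⁻¹, by rw [permMat_mul, mul_inv_cancel, permMat_one],
    by rw [permMat_mul, inv_mul_cancel, permMat_one]⟩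

theorem permGL_mul (σ τ : Equiv.Perm (Fin n)) : (permGL σ : GL (Fin n) F) * permGL τ = permGL (σ * τ) :=
  Units.ext (permMat_mul σ τ)

/-- The Bruhat decomposition, existence. -/
theorem bruhat (g : GL (Fin n) F) : ∃ σ, ∃ b ∈ Cfsg.upperTriangularGL n F,
    ∃ b' ∈ Cfsg.upperTriangularGL n F, b * g = permGL σ * b' := by
  classical
  set A := (g : Matrix (Fin n) (Fin n) F)
  have hex : ∀ j : Fin n, ∃ m : ℕ, ∃ a : Fin n → F, a j = 1 ∧ (∀ k, j < k → a k = 0) ∧
      ∀ i : Fin n, m ≤ i.val → (A *ᵥ a) i = 0 := fun j =>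
    ⟨n, Pi.single j 1, Pi.single_eq_same _ _, fun k hk => Pi.single_eq_of_ne hk.ne' _,
      fun i hi => absurd hi (by omega)⟩
  have hinj : ∀ a : Fin n → F, A *ᵥ a = 0 → a = 0 := fun a ha =>
    (Matrix.mulVec_injective_iff_isUnit.2 g.isUnit) (ha.trans (Matrix.mulVec_zero A).symm)
  have hpos : ∀ j, 0 < Nat.find (hex j) := fun j => by
    by_contra h0
    obtain ⟨a, ha1, -, ha3⟩ := Nat.find_spec (hex j)
    have := hinj a (funext fun i => ha3 i (by omega))
    rw [this] at ha1
    simp at ha1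
  have hle : ∀ j, Nat.find (hex j) ≤ n := fun j => Nat.find_le
    ⟨Pi.single j 1, Pi.single_eq_same _ _, fun k hk => Pi.single_eq_of_ne hk.ne' _,
      fun i hi => absurd hi (by omega)⟩
  let piv : Fin n → Fin n := fun j => ⟨Nat.find (hex j) - 1, by have := hle j; have := hpos j; omega⟩
  have key : ∀ j, ∃ a : Fin n → F, a j = 1 ∧ (∀ k, j < k → a k = 0) ∧
      (∀ i, piv j < i → (A *ᵥ a) i = 0) ∧ (A *ᵥ a) (piv j) ≠ 0 := fun j => by
    obtain ⟨a, ha1, ha2, ha3⟩ := Nat.find_spec (hex j)
    refine ⟨a, ha1, ha2, fun i hi => ha3 i ?_, fun h0 => ?_⟩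
    · simp only [piv, Fin.lt_def] at hi; omega
    · refine Nat.find_min (hex j) (show Nat.find (hex j) - 1 < Nat.find (hex j) by have := hpos j; omega)
        ⟨a, ha1, ha2, fun i hi => ?_⟩
      rcases hi.eq_or_lt with e | e
      · rw [show i = piv j from Fin.ext e.symm]; exact h0
      · exact ha3 i (by omega)
  choose a ha1 ha2 ha3 ha4 using key
  have hpiv : Function.Injective piv := by
    have aux : ∀ i j, i < j → piv i ≠ piv j := fun i j hij e => by
      set c := (A *ᵥ a j) (piv j) / (A *ᵥ a i) (piv i)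
      refine Nat.find_min (hex j) (show Nat.find (hex j) - 1 < Nat.find (hex j) by have := hpos j; omega)
        ⟨a j - c • a i, ?_, ?_, fun k hk => ?_⟩
      · simp [ha1 j, ha2 i j hij]
      · intro k hk
        simp [ha2 j k hk, ha2 i k (hij.trans hk)]
      · rw [Matrix.mulVec_sub, Matrix.mulVec_smul, Pi.sub_apply, Pi.smul_apply, smul_eq_mul]
        rcases (show (piv j).val ≤ k.val from hk).eq_or_lt with e' | e'
        · obtain rfl : piv j = k := Fin.ext e'
          rw [← e]
          simp only [c, e]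
          rw [div_mul_cancel₀ _ (e ▸ ha4 i), sub_self]
        · rw [ha3 j k e', ha3 i k (by rw [e]; exact e'), mul_zero, sub_zero]
    intro i j e
    rcases lt_trichotomy i j with h | h | h
    · exact absurd e (aux i j h)
    · exact h
    · exact absurd e.symm (aux j i h)
  let σ : Equiv.Perm (Fin n) := Equiv.ofBijective piv hpiv.bijective_of_finite
  set B' : Matrix (Fin n) (Fin n) F := Matrix.of fun k j => a j k with hB'
  have hB'up : B'.BlockTriangular id := fun k j hkj => ha2 j k hkj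
  have hB'd : B'.det ≠ 0 := by
    rw [Matrix.det_of_upperTriangular hB'up, Finset.prod_eq_one fun i _ => by simp [hB', ha1]]
    exact one_ne_zero
  let b' : GL (Fin n) F := Matrix.GeneralLinearGroup.mkOfDetNeZero B' hB'd
  have hAB : ∀ i j, (A * B') i j = (A *ᵥ a j) i := fun i j => rfl
  let U : GL (Fin n) F := g * b' * (permGL σ)⁻¹
  have hU : U ∈ Cfsg.upperTriangularGL n F := by
    intro i k hik
    show (A * B' * (permMat σ⁻¹ : Matrix (Fin n) (Fin n) F)) i k = 0
    rw [Matrix.mul_apply, Finset.sum_eq_zero fun j _ => ?_]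
    simp only [permMat, Matrix.of_apply]
    split_ifs with hj
    · subst hj
      rw [hAB, ha3 _ i, zero_mul]
      show piv (σ⁻¹ k) < i
      rw [show piv (σ⁻¹ k) = k from σ.apply_symm_apply k]
      exact hik
    · rw [mul_zero]
  exact ⟨σ, U⁻¹, Subgroup.inv_mem _ hU, b'⁻¹, Subgroup.inv_mem _ hB'up, by simp only [U]; group⟩

theorem upper_le_parabolic (μ : Fin n → ℕ) :
    Cfsg.upperTriangularGL n F ≤ Cfsg.parabolicGL n F μ := fun _ hg i j hij =>
  hg (show j < i by
    by_contra h
    exact absurd (compLabel_mono μ (not_lt.1 h)) (not_le.2 hij))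

theorem permGL_mem_parabolic {μ : Fin n → ℕ} {s : Equiv.Perm (Fin n)}
    (hs : ∀ i, Cfsg.compLabel μ (s i) = Cfsg.compLabel μ i) :
    (permGL s : GL (Fin n) F) ∈ Cfsg.parabolicGL n F μ := fun i j hij => by
  show permMat s i j = 0
  simp only [permMat, Matrix.of_apply]
  rw [if_neg]
  rintro rfl
  rw [hs] at hij
  exact lt_irrefl _ hij

variable [Fintype F]

/-- The kernel used as an invariant. -/
def blockKer (f g : Fin n → ℕ) (a b : ℕ) (M : Matrix (Fin n) (Fin n) F) : Type _ :=
  {v : Fin n → F // (∀ j, b ≤ g j → v j = 0) ∧ ∀ i, a ≤ f i → (M *ᵥ v) i = 0}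

instance (f g : Fin n → ℕ) (a b : ℕ) (M : Matrix (Fin n) (Fin n) F) : Finite (blockKer f g a b M) :=
  inferInstanceAs (Finite {v : Fin n → F // _})

theorem card_blockKer_le {f g : Fin n → ℕ} (a b : ℕ) {A B : Matrix (Fin n) (Fin n) F} {p q : GL (Fin n) F}
    (hp : (p : Matrix (Fin n) (Fin n) F).BlockTriangular f)
    (hq : (q : Matrix (Fin n) (Fin n) F).BlockTriangular g)
    (e : (p : Matrix (Fin n) (Fin n) F) * B = A * (q : Matrix (Fin n) (Fin n) F)) :
    Nat.card (blockKer f g a b B) ≤ Nat.card (blockKer f g a b A) := by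
  refine Nat.card_le_card_of_injective (fun v => ⟨(q : Matrix (Fin n) (Fin n) F) *ᵥ v.1, ?_, ?_⟩) ?_
  · intro j hj
    simp only [Matrix.mulVec, dotProduct]
    refine Finset.sum_eq_zero fun k _ => ?_
    rcases lt_or_ge (g k) (g j) with h | h
    · rw [hq h, zero_mul]
    · rw [v.2.1 k (hj.trans h), mul_zero]
  · intro i hi
    rw [Matrix.mulVec_mulVec, ← e, ← Matrix.mulVec_mulVec]
    rw [Matrix.mulVec, dotProduct]
    refine Finset.sum_eq_zero fun k _ => ?_
    rcases lt_or_ge (f k) (f i) with h | h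
    · rw [hp h, zero_mul]
    · rw [v.2.2 k (hi.trans h), mul_zero]
  · intro v w h
    exact Subtype.ext (Matrix.mulVec_injective_iff_isUnit.2 q.isUnit (congrArg Subtype.val h))

theorem card_blockKer_perm (f g : Fin n → ℕ) (a b : ℕ) (σ : Equiv.Perm (Fin n)) :
    Nat.card (blockKer f g a b (permMat σ : Matrix (Fin n) (Fin n) F)) =
      Fintype.card F ^ Nat.card {j // g j < b ∧ f (σ j) < a} := by
  classical
  rw [Nat.card_eq_fintype_card (α := {j // g j < b ∧ f (σ j) < a}), ← Fintype.card_fun,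
    ← Nat.card_eq_fintype_card]
  refine Nat.card_congr
    { toFun := fun v j => v.1 j.1
      invFun := fun w => ⟨fun j => if h : g j < b ∧ f (σ j) < a then w ⟨j, h⟩ else 0,
        fun j hj => dif_neg fun h => absurd h.1 (not_lt.2 hj), fun i hi => by
          rw [permMat_mulVec]
          exact dif_neg fun h => absurd h.2 (not_lt.2 (by rwa [Equiv.apply_symm_apply]))⟩
      left_inv := fun v => Subtype.ext (funext fun j => ?_)
      right_inv := fun w => funext fun j => dif_pos j.2 }
  show (if h : g j < b ∧ f (σ j) < a then v.1 j else 0) = v.1 j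
  split_ifs with h
  · rfl
  · rcases not_and_or.1 h with h | h
    · exact (v.2.1 j (not_lt.1 h)).symm
    · have := v.2.2 (σ j) (not_lt.1 h)
      rw [permMat_mulVec, Equiv.symm_apply_apply] at this
      exact this.symm

/-- The double coset of a permutation matrix determines the meeting numbers. -/
theorem cnt_eq_of_double_coset (f g : Fin n → Fin n) {σ σ' : Equiv.Perm (Fin n)} {p q : GL (Fin n) F}
    (hp : (p : Matrix (Fin n) (Fin n) F).BlockTriangular fun i => (f i).val)
    (hq : (q : Matrix (Fin n) (Fin n) F).BlockTriangular fun i => (g i).val)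
    (hp' : ((p⁻¹ : GL (Fin n) F) : Matrix (Fin n) (Fin n) F).BlockTriangular fun i => (f i).val)
    (hq' : ((q⁻¹ : GL (Fin n) F) : Matrix (Fin n) (Fin n) F).BlockTriangular fun i => (g i).val)
    (e : p * permGL σ' = permGL σ * q) : cnt f g σ = cnt f g σ' := by
  classical
  have hS : ∀ a b : ℕ, Nat.card {j // (g j).val < b ∧ (f (σ j)).val < a} =
      Nat.card {j // (g j).val < b ∧ (f (σ' j)).val < a} := by
    intro a b
    have h1 := card_blockKer_le a b hp hq (congrArg Units.val e)
    have h2 := card_blockKer_le a b hp' hq' (congrArg Units.val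
      (show p⁻¹ * permGL σ = permGL σ' * q⁻¹ by rw [inv_mul_eq_iff_eq_mul, ← mul_assoc, e, mul_inv_cancel_right]))
    have h3 := le_antisymm h1 h2
    simp only [permGL] at h3
    rw [card_blockKer_perm, card_blockKer_perm] at h3
    exact (Nat.pow_right_injective Fintype.one_lt_card h3).symm
  have hincl : ∀ (τ : Equiv.Perm (Fin n)) (x y : Fin n), (Nat.card {j // f (τ j) = x ∧ g j = y} : ℤ) =
      Nat.card {j // (g j).val < y.val + 1 ∧ (f (τ j)).val < x.val + 1}
        - Nat.card {j // (g j).val < y.val + 1 ∧ (f (τ j)).val < x.val}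
        - Nat.card {j // (g j).val < y.val ∧ (f (τ j)).val < x.val + 1}
        + Nat.card {j // (g j).val < y.val ∧ (f (τ j)).val < x.val} := by
    intro τ x y
    simp only [Nat.card_eq_fintype_card, Fintype.card_subtype, Finset.card_filter, Nat.cast_sum]
    rw [← Finset.sum_sub_distrib, ← Finset.sum_sub_distrib, ← Finset.sum_add_distrib]
    refine Finset.sum_congr rfl fun j _ => ?_
    simp only [Fin.ext_iff]
    split_ifs <;> first | (simp; omega) | omega
  refine Subtype.ext (funext fun x => funext fun y => ?_)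
  have := hincl σ x y
  rw [hS, hS, hS, hS, ← hincl σ' x y] at this
  exact_mod_cast this

/-- The number of orbits for two parabolic subgroups. -/
theorem card_orbits_parabolic [DecidableEq F] (ν μ : Fin n → ℕ) (hν : ∑ i, ν i = n) (hμ : ∑ i, μ i = n) :
    Nat.card (orbitRel.Quotient (GL (Fin n) F)
      ((GL (Fin n) F ⧸ Cfsg.parabolicGL n F ν) × (GL (Fin n) F ⧸ Cfsg.parabolicGL n F μ))) =
      Nat.card (Margins ν μ) := by
  have hf : fiberCard (lab ν hν) = ν := funext (card_lab_fiber ν hν)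
  have hg : fiberCard (lab μ hμ) = μ := funext (card_lab_fiber μ hμ)
  conv_rhs => rw [← hf, ← hg]
  refine card_orbits_eq _ _ (lab ν hν) (lab μ hμ) permGL (fun x => ?_) fun σ σ' => ?_
  · obtain ⟨σ, b, hb, b', hb', e⟩ := bruhat x
    exact ⟨σ, b, upper_le_parabolic ν hb, b', upper_le_parabolic μ hb', e⟩
  constructor
  · rintro ⟨p, hp, k, hk, e⟩
    exact cnt_eq_of_double_coset _ _ hp hk (Subgroup.inv_mem _ hp) (Subgroup.inv_mem _ hk) e
  · intro h
    obtain ⟨s, t, hs, ht, e⟩ := exists_of_cnt_eq _ _ h.symm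
    refine ⟨permGL s, permGL_mem_parabolic fun i => congrArg Fin.val (hs i), permGL t,
      permGL_mem_parabolic fun i => congrArg Fin.val (ht i), ?_⟩
    rw [permGL_mul, permGL_mul, e]

/-- The inner product of two flag characters counts matrices with the prescribed margins. -/
theorem classInner_parabolic [DecidableEq F] (ν μ : Fin n → ℕ) (hν : ∑ i, ν i = n) (hμ : ∑ i, μ i = n) :
    Cfsg.classInner (Cfsg.fixedPointCharacter (Cfsg.parabolicGL n F ν))
      (Cfsg.fixedPointCharacter (Cfsg.parabolicGL n F μ)) = (Nat.card (Margins ν μ) : ℂ) := by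
  rw [classInner_fixedPoint, card_orbits_parabolic ν μ hν hμ]

end Linear

theorem classInner_young {n : ℕ} (ν μ : Fin n → ℕ) (hν : ∑ i, ν i = n) (hμ : ∑ i, μ i = n) :
    Cfsg.classInner (Cfsg.fixedPointCharacter (Cfsg.youngSubgroup ν))
      (Cfsg.fixedPointCharacter (Cfsg.youngSubgroup μ)) = (Nat.card (Margins ν μ) : ℂ) := by
  rw [classInner_fixedPoint, card_orbits_young ν μ hν hμ]

end CfsgLib.KnownSimple.UnipotentChar
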